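import Mathlib
import Cfsg.Agent.Lib.MultC.J1.OutD

/-! generated certificate -/

set_option autoImplicit false
set_option maxRecDepth 100000
set_option Elab.async false

namespace CfsgLib.MultC.J1.O

open CfsgLib.Comput CfsgLib.MultC

open CfsgLib.Fischer

theorem v1 : wordsOK 266 9 U0 V1 [[0x1010605050503010304], [0x4040604040404050602040302]] = true := by decide +kernel
theorem v2 : wordsOK 266 9 U1 V2 [[0xa070a070a07080708070807070809]] = true := by decide +kernel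
theorem v3 : wordsOK 266 9 U2 V3 [[0x80c090b090c0a0c]] = true := by decide +kernel
theorem v4 : wordsOK 266 9 U3 V4 [[0x2070b070d]] = true := by decide +kernel
theorem lb : Nat.ble 175560 (lbVal (stepH W) 266 (toLB L0) []) = true := by decide +kernel
theorem lv0 : levOK (stepH W) 266 lev0 (letL (lev0 :: L1)) = true := by decide +kernel
theorem lv1 : levOK (stepH W) 266 lev1 (letL (lev1 :: L2)) = true := by decide +kernel
theorem lv2 : levOK (stepH W) 266 lev2 (letL (lev2 :: [])) = true := by decide +kernel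
theorem hl : D.lOK (stepH W) (baseL L0) = true := by decide +kernel
theorem hb : D.basic (stepH W) 266 (baseL L0) = true := by decide +kernel
theorem a0 : eqOn (stepH W) (baseL L0) (1 :: [0x30404030101, 0xa070807, 0xd0d], [0x30404030101, 0xa070807, 0xd0d] ++ [15]) = true := by decide +kernel
theorem a1 : powOK (stepH W) (baseL L0) 15 ma = true := by decide +kernel
theorem l1 : powOK (stepH W) (baseL L0) D.wl ml = true := by decide +kernel
noncomputable def ta1 : CT :=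
  (.br 0 [15, 0xf0f, 0xf0f0f0f, 0xf0f0f0f0f0f0f0f, 0x101010] 1 0 0 0 (.ch 13 0 (.frc 15 0 166 0 (.frc 0x101010101010 1 175 0 (.leaf 0))) (.ch 0 0x501010601 (.ref 15 0 0) (.ch 1 0x40406010101 (.ref 15 0 0) (.ch 2 0x1060406 (.ref 0xf0f 0 0) (.ch 3 0x4040605010201 (.ref 0xf0f 0 1) (.ch 5 0x504 (.ref 15 0 0) (.ch 6 0x4040605 (.ref 15 0 0) (.ch 8 0x40201060406 (.ref 0xf0f 0 0) (.ch 12 0x404060402 (.ref 0xf0f 0 1) (.ch 14 0x40504060504 (.ref 0xf0f 0 0) (.ch 24 0x40504060404 (.ref 15 0 0) (.ch 25 0x405040605 (.ref 15 0 0) (.ch 41 0x4040406 (.ref 0xf0f 0 0) (.ch 42 0x5050506 (.ref 15 0 0) .nil)))))))))))))))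
theorem ca1 : CT.chk (stepH W) 266 (msk ma) [0] ta1 false L0 [] [] = true := by decide +kernel
noncomputable def tl2 : CT :=
  (.br 0 [2, 0x202, 0x505] 1 0 0 0 (.cat (.ch 13 0 (.frc 2 0 166 0 (.frc 2 0 175 0 (.leaf 0))) (.ch 0 0x501010601 (.ref 0x202 0 0) (.ch 1 0x40406010101 (.ref 2 0 0) (.ch 2 0x1060406 (.ref 0x202 0 0) (.cy 3 0x20202 (.ch 4 0x10105060404 (.ref 2 0 0) (.ch 5 0x504 (.ref 0x202 0 0) (.ch 6 0x4040605 (.ref 2 0 0) (.ch 7 0x404060105 (.frc 2 0 192 8 (.ref 2 0 0)) (.ch 8 0x40201060406 (.ref 2 0 0) (.ch 9 0x10106040405 (.ref 2 0 0) (.ch 10 0x40406040202 (.frc 2 0 12 0x809080c (.ref 5 1 0)) (.ch 11 0x101 (.ref 0x202 0 0) (.ch 14 0x40504060504 (.frc 2 0 65 0x8090809 (.ref 0x202 0 1)) (.ch 15 0x10201060406 (.ref 2 0 0) (.ch 16 0x504040605 (.ref 2 0 0) (.ch 17 0x50405060102 (.ref 2 0 0) (.ch 18 0x1010601 (.ref 0x202 0 0) (.ch 19 0x40404060405 (.ref 0x20202 0 0) (.ch 20 0x404060406 (.frc 2 0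 208 0x80c0a0b (.ref 5 1 0)) (.ch 21 0x506 (.frc 2 0 137 0xc0908 (.ref 2 0 0)) (.ch 22 0x504060106 (.ref 2 0 0) (.cy 24 0x202 (.ch 25 0x405040605 (.ref 0x20202 0 0) .nil))))))))))))))))))))))))
 (.ch 26 0x4050405 (.ref 0x20202 0 0) (.ch 27 0x10106040504 (.ref 2 0 0) (.ch 36 0x50405050604 (.ref 2 0 0) (.cy 40 0x202 (.ch 43 0x405 (.ref 2 0 0) (.ch 44 0x50404060102 (.ref 2 0 0) (.ch 45 0x504060404 (.ref 2 0 0) (.ch 47 0x60102 (.ref 2 0 0) (.ch 50 0x106040601 (.ref 2 0 0) (.ch 52 0x10605 (.ref 0x20202 0 0) (.ch 54 0x40406010105 (.ref 0x20202 0 0) (.ch 64 0x4020106 (.ref 0x202 0 0) (.ch 66 0x40406010106 (.ref 0x20202 0 0) (.ch 68 0x10504 (.ref 2 0 0) (.ch 71 0x4040601050604 (.ref 2 0 0) (.ch 74 0x5040402 (.ref 2 0 0) (.cy 78 0x20202 (.ch 79 0x604050406 (.ref 0x202 0 0) (.ch 84 0x60105040604 (.ref 2 0 0) (.ch 93 0x5010201 (.ref 2 0 0) (.cy 110 2 (.ch 114 0x5060101 (.ref 0x202 0 0) (.ch 119 0x4040405060406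 (.ref 2 0 0) (.cy 189 0x20202 .nil))))))))))))))))))))))))))
theorem cl2 : CT.chk (stepH W) 266 (msk ml) D.V tl2 false L0 [] [] = true := by decide +kernel
theorem cand0 : allIn (D.candOK (stepH W) 266) 0 18 = true := by decide +kernel

end CfsgLib.MultC.J1.O
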